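import Groth.Agent.Lib.FPCrit.Basic
import Groth.Agent.Lib.Affine25.General
import Groth.Agent.Lib.WeightLim8.Main
import Groth.Agent.Lib.SGA1Quot21.SigmaFinite

/-!
# Affineness of an open can be tested on integral closed subschemes
-/

set_option autoImplicit false
set_option backward.isDefEq.respectTransparency false
set_option linter.style.haveILetI false

universe u

open CategoryTheory CategoryTheory.Limits AlgebraicGeometry TopologicalSpace Opposite Topology

noncomputable section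

namespace GrothLib.MaxLocus6

variable {A : Type u} [CommRing A]

/-- The closed immersion cut out by an ideal. -/
abbrev clo (J : Ideal A) : Spec (CommRingCat.of (A ⧸ J)) ⟶ Spec (CommRingCat.of A) :=
  Spec.map (CommRingCat.ofHom (Ideal.Quotient.mk J))

/-- An affine trace on the closed subscheme of a prime spreads to that of a finitely generated ideal below it. -/
theorem exists_fg_isAffineOpen (U : (Spec (CommRingCat.of A)).Opens) (hU : IsCompact (U : Set (Spec (CommRingCat.of A))))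
    (P : Ideal A) (h : IsAffineOpen (clo P ⁻¹ᵁ U)) :
    ∃ J : Ideal A, J.FG ∧ J ≤ P ∧ IsAffineOpen (clo J ⁻¹ᵁ U) := by
  let π := Ideal.Quotient.mkₐ A P
  let G := FPCrit.kerUnder π ⋙ Under.forget (CommRingCat.of A)
  let D : (FPCrit.FgKer π)ᵒᵖ ⥤ Scheme.{u} := G.op ⋙ Scheme.Spec
  let c : Cone D := Scheme.Spec.mapCone ((Under.forget _).mapCocone (FPCrit.kerCocone π)).op
  let hc : IsLimit c :=
    isLimitOfPreserves Scheme.Spec (FPCrit.isColimitKerCocone π (Ideal.Quotient.mkₐ_surjective A P)).op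
  haveI : ∀ {a b : (FPCrit.FgKer π)ᵒᵖ} (ψ : a ⟶ b), IsAffineHom (D.map ψ) := fun {a b} ψ =>
    inferInstanceAs (IsAffineHom (Spec.map _))
  let i₀ : (FPCrit.FgKer π)ᵒᵖ := op ⟨⊥, Submodule.fg_bot, bot_le⟩
  let U₀ : (D.obj i₀).Opens := clo (⊥ : Ideal A) ⁻¹ᵁ U
  have hU₀ : IsCompact (U₀ : Set (D.obj i₀)) := (clo (⊥ : Ideal A)).isCompact_preimage hU
  have hcomp : ∀ j : Over i₀, D.map j.hom ≫ clo (⊥ : Ideal A) = clo (j.left.unop.1) := fun j => by
    show Spec.map _ ≫ Spec.map _ = Spec.map _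
    rw [← Spec.map_comp]
    exact congrArg Spec.map (CommRingCat.hom_ext (RingHom.ext fun a => rfl))
  have hcompc : c.π.app i₀ ≫ clo (⊥ : Ideal A) = clo P := by
    show Spec.map _ ≫ Spec.map _ = Spec.map _
    rw [← Spec.map_comp]
    exact congrArg Spec.map (CommRingCat.hom_ext (RingHom.ext fun a => rfl))
  haveI : ∀ j : Over i₀, CompactSpace ((opensDiagram D i₀ U₀).obj j) := fun j =>
    isCompact_iff_compactSpace.mp (QuasiCompact.isCompact_preimage _ U₀.2 hU₀)
  haveI : ∀ j, QuasiSeparatedSpace (D.obj j) := fun j => inferInstanceAs (QuasiSeparatedSpace (Spec _))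
  haveI : ∀ j : Over i₀, QuasiSeparatedSpace ((opensDiagram D i₀ U₀).obj j) := fun j =>
    (isQuasiSeparated_iff_quasiSeparatedSpace _ (D.map _ ⁻¹ᵁ _).2).mp (.of_quasiSeparatedSpace _)
  haveI : IsAffine (opensCone D c i₀ U₀).pt := by
    show IsAffineOpen (c.π.app i₀ ⁻¹ᵁ U₀)
    rw [← Scheme.Hom.comp_preimage, hcompc]
    exact h
  obtain ⟨j, hj⟩ := Scheme.exists_isAffine_of_isLimit _ _ (isLimitOpensCone D c hc i₀ U₀)
  refine ⟨j.left.unop.1, j.left.unop.2.1, ?_, ?_⟩
  · exact j.left.unop.2.2.trans (Ideal.mk_ker (I := P)).le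
  · have hj' : IsAffineOpen (D.map j.hom ⁻¹ᵁ U₀) := hj
    rwa [← Scheme.Hom.comp_preimage, hcomp] at hj'

/-- A quasi-compact open of an affine scheme is affine if its preimages in spectra of domains are. -/
theorem isAffineOpen_of_domains {Y : Scheme.{u}} [IsAffine Y] (U : Y.Opens) (hU : IsCompact (U : Set Y))
    (h : ∀ (R : CommRingCat.{u}) (_ : IsDomain R) (g : Spec R ⟶ Y), IsAffineOpen (g ⁻¹ᵁ U)) : IsAffineOpen U := by
  classical
  let A := Γ(Y, ⊤)
  let e : Spec (CommRingCat.of A) ⟶ Y := Y.isoSpec.inv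
  let V := e ⁻¹ᵁ U
  have hV : IsCompact (V : Set (Spec (CommRingCat.of A))) := e.isCompact_preimage hU
  suffices hVA : IsAffineOpen V by
    have h2 := hVA.preimage_of_isIso Y.isoSpec.hom
    rwa [← Scheme.Hom.comp_preimage, show Y.isoSpec.hom ≫ e = 𝟙 Y from Y.isoSpec.hom_inv_id, Scheme.Hom.id_preimage] at h2
  choose J hJfg hJP hJaff using fun P : Spec (CommRingCat.of A) =>
    exists_fg_isAffineOpen V hV P.asIdeal (by
      rw [← Scheme.Hom.comp_preimage]
      exact h (CommRingCat.of (A ⧸ P.asIdeal)) inferInstance _)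
  let C : Spec (CommRingCat.of A) → Set (Spec (CommRingCat.of A)) := fun P => PrimeSpectrum.zeroLocus (J P)
  obtain ⟨t, ht⟩ := GrothLib.WeightLim8.exists_finite_cover C
    (fun P => by
      obtain ⟨s, hs⟩ := hJfg P
      have := GrothLib.Weight.isConstructible_basic (1 : A) s
      rw [PrimeSpectrum.basicOpen_one, TopologicalSpace.Opens.coe_top, Set.univ_inter,
        ← PrimeSpectrum.zeroLocus_span, show Ideal.span (s : Set A) = J P from hs] at this
      exact this)
    (fun P => hJP P)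
  let W : t → Scheme.{u} := fun P => ((clo (J P.1) ⁻¹ᵁ V : (Spec _).Opens) : Scheme.{u})
  let k : ∀ P : t, W P ⟶ (V : Scheme.{u}) := fun P => clo (J P.1) ∣_ V
  haveI : ∀ P, IsClosedImmersion (clo (J P)) := fun P => IsClosedImmersion.spec_of_surjective _ Ideal.Quotient.mk_surjective
  haveI : ∀ P, IsFinite (k P) := fun P =>
    MorphismProperty.of_isPullback (P := @IsFinite) (isPullback_morphismRestrict _ _).flip inferInstance
  haveI : ∀ P, IsAffine (W P) := fun P => hJaff P.1
  haveI : IsFinite (Sigma.desc k) := GrothLib.SGA1Quot21.isFinite_sigmaDesc k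
  haveI : Surjective (Sigma.desc k) := ⟨fun y => by
    obtain ⟨P, hP, hy⟩ := ht y.1
    obtain ⟨z, hz⟩ : y.1 ∈ Set.range (clo (J P)) := by
      show y.1 ∈ Set.range (PrimeSpectrum.comap (Ideal.Quotient.mk (J P)))
      rw [range_comap_of_surjective _ _ Ideal.Quotient.mk_surjective, Ideal.mk_ker]
      exact hy
    have hzV : z ∈ clo (J P) ⁻¹ᵁ V := by
      show clo (J P) z ∈ V
      rw [hz]; exact y.2
    refine ⟨Sigma.ι W ⟨P, hP⟩ (⟨z, hzV⟩ : W ⟨P, hP⟩), ?_⟩
    rw [← Scheme.Hom.comp_apply, Sigma.ι_desc]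
    exact Subtype.ext ((morphismRestrict_base_coe _ _ _).trans hz)⟩
  haveI : CompactSpace (V : Scheme.{u}) := isCompact_iff_compactSpace.mp hV
  haveI : QuasiSeparatedSpace (V : Scheme.{u}) :=
    (isQuasiSeparated_iff_quasiSeparatedSpace _ V.2).mp (.of_quasiSeparatedSpace _)
  exact GrothLib.Affine25.isAffine_of_integral_surjective (Sigma.desc k)

end GrothLib.MaxLocus6
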