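import Groth.Agent.Lib.Weight.Semicont
import Groth.Agent.Lib.Weight.Positive
import Groth.Agent.Lib.Birat.LqfSep
import Groth.Agent.Lib.GeomComp6.Irred
import Groth.Agent.Lib.RedSub.Basic
import Groth.Agent.Lib.SGA1Quot21.SigmaFinite

/-!
# The maximum locus of a fibre integral over a normal base with algebraically closed function field
-/

set_option autoImplicit false
set_option backward.isDefEq.respectTransparency false
set_option linter.style.haveILetI false

universe u

open CategoryTheory CategoryTheory.Limits AlgebraicGeometry TopologicalSpace Topology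

noncomputable section

namespace GrothLib.MaxLocus6

variable {X Y : Scheme.{u}}

/-- An integral, separated, quasi-finite scheme dominating a normal integral scheme with algebraically closed
function field is an open subscheme of it. -/
theorem isOpenImmersion_of_algClosed [IsIntegral X] [IsIntegral Y] (g : X ⟶ Y) [IsSeparated g] [LocallyOfFiniteType g]
    [LocallyQuasiFinite g] (hN : ∀ y, IsIntegrallyClosed (Y.presheaf.stalk y)) (hK : IsAlgClosed Y.functionField)
    (e : g (genericPoint X) = genericPoint Y) : IsOpenImmersion g := by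
  let ξ := genericPoint X
  haveI hYf : IsField (Y.presheaf.stalk (g ξ)) := by rw [e]; exact Field.toIsField Y.functionField
  haveI hXf : IsField (X.presheaf.stalk ξ) := Field.toIsField X.functionField
  haveI : IsAlgClosed (Y.residueField (g ξ)) := by
    haveI : IsAlgClosed (Y.residueField (genericPoint Y)) :=
      IsAlgClosed.of_ringEquiv Y.functionField _ (RingEquiv.ofBijective (Y.residue (genericPoint Y)).hom
        ⟨RingHom.injective _, IsLocalRing.residue_surjective⟩)
    rw [e]; infer_instance
  have hr : Function.Surjective (g.residueFieldMap ξ) := by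
    letI := (g.residueFieldMap ξ).hom.toAlgebra
    haveI : Module.Finite (Y.residueField (g ξ)) (X.residueField ξ) := GrothLib.Weight.finite_residueFieldMap g ξ
    exact (IsAlgClosed.algebraMap_bijective_of_isIntegral (k := Y.residueField (g ξ)) (K := X.residueField ξ)).2
  have hb : Function.Bijective (g.stalkMap ξ).hom := by
    letI := hYf.toField
    refine ⟨RingHom.injective _, fun b => ?_⟩
    obtain ⟨a, ha⟩ := hr (X.residue ξ b)
    obtain ⟨a, rfl⟩ := IsLocalRing.residue_surjective a
    refine ⟨a, ?_⟩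
    have hinj : Function.Injective (X.residue ξ) := by
      letI := hXf.toField
      exact RingHom.injective _
    apply hinj
    rw [← ha]
    exact (congrArg (fun m : _ ⟶ X.residueField ξ => m.hom a) (Scheme.residue_residueFieldMap g ξ)).symm
  exact GrothLib.Birat.isOpenImmersion_of_lqf_birational g e hb hN

variable (f : X ⟶ Y) [LocallyQuasiFinite f] [LocallyOfFiniteType f]

/-- The core case. -/
theorem isAffineOpen_max_of_algClosed [IsAffine X] [IsAffine Y] [IsIntegral Y]
    (hN : ∀ y, IsIntegrallyClosed (Y.presheaf.stalk y)) (hK : IsAlgClosed Y.functionField)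
    (w : X → ℤ) (hw : MoreMor.IsWeighting f w) (hpos : ∀ x, 0 < w x) (d : ℤ)
    (hmax : ∀ y, MoreMor.fibreIntegral f w y ≤ d)
    (hopen : IsOpen {y : Y | MoreMor.fibreIntegral f w y = d}) :
    IsAffineOpen (⟨{y : Y | MoreMor.fibreIntegral f w y = d}, hopen⟩ : Y.Opens) := by
  classical
  set U : Y.Opens := ⟨{y : Y | MoreMor.fibreIntegral f w y = d}, hopen⟩ with hUdef
  rcases (U : Set Y).eq_empty_or_nonempty with h0 | hne
  · have : U = ⊥ := TopologicalSpace.Opens.ext h0
    rw [this]; exact isAffineOpen_bot Y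
  set η := genericPoint Y
  have hηU : ∀ O : Y.Opens, (O : Set Y).Nonempty → η ∈ O := fun O hO =>
    ((genericPoint_spec Y).mem_open_set_iff O.2).mpr (by simpa using hO)
  have hηd : MoreMor.fibreIntegral f w η = d := hηU U hne
  have hfinf : ∀ y : Y, (f ⁻¹' {y}).Finite := fun y => f.finite_preimage_singleton y
  haveI : Fintype {x : X // f x = η} := (hfinf η).fintype
  have hop : IsOpenMap f := GrothLib.Weight.isOpenMap_of_positive hw hpos
  have hcl : ∀ z : X, ∃ x : {x : X // f x = η}, z ∈ closure ({x.1} : Set X) := by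
    intro z
    have hz : z ∈ closure (f ⁻¹' {η}) := mem_closure_iff.mpr fun O hO hzO => by
      obtain ⟨x, hxO, hx⟩ := hηU ⟨f '' O, hop O hO⟩ ⟨f z, z, hzO, rfl⟩
      exact ⟨x, hxO, hx⟩
    rw [show f ⁻¹' {η} = ⋃ x : {x : X // f x = η}, {x.1} by ext x; simp, closure_iUnion_of_finite] at hz
    exact Set.mem_iUnion.mp hz
  let Cl : {x : X // f x = η} → Closeds X := fun x => ⟨closure {x.1}, isClosed_closure⟩
  let Z : {x : X // f x = η} → Scheme.{u} := fun x => (Scheme.IdealSheafData.vanishingIdeal (Cl x)).subscheme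
  let ι : ∀ x, Z x ⟶ X := fun x => (Scheme.IdealSheafData.vanishingIdeal (Cl x)).subschemeι
  have hrange : ∀ x, Set.range (ι x) = closure ({x.1} : Set X) := fun x => GrothLib.RedSub.range_subschemeι_vanishingIdeal _
  haveI hint : ∀ x, IsIntegral (Z x) := fun x => by
    haveI : IrreducibleSpace (Scheme.IdealSheafData.vanishingIdeal (Cl x)).subscheme :=
      (GrothLib.GeomComp6.isIrreducible_range_iff (ι x) (ι x).isEmbedding).mp
        ((hrange x).symm ▸ isIrreducible_singleton.closure)
    haveI : IsReduced (Scheme.IdealSheafData.vanishingIdeal (Cl x)).subscheme :=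
      GrothLib.RedSub.isReduced_subscheme_vanishingIdeal _
    exact isIntegral_of_irreducibleSpace_of_isReduced _
  haveI : ∀ x, IsClosedImmersion (ι x) := fun x => inferInstanceAs (IsClosedImmersion (Scheme.IdealSheafData.subschemeι _))
  haveI : ∀ x, IsAffine (Z x) := fun x => isAffine_of_isAffineHom (ι x)
  have hgen : ∀ x, ι x (genericPoint (Z x)) = x.1 := fun x => by
    have h1 := (genericPoint_spec (Z x)).image (ι x).continuous
    rw [Set.image_univ, hrange, isClosed_closure.closure_eq] at h1
    exact h1.eq isGenericPoint_closure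
  let a : ∀ x, Z x ⟶ Y := fun x => ι x ≫ f
  haveI : ∀ x, IsOpenImmersion (a x) := fun x => isOpenImmersion_of_algClosed (a x) hN hK (by
    show f (ι x (genericPoint (Z x))) = η
    rw [hgen, x.2])
  let O : Y.Opens := Finset.univ.inf fun x => (a x).opensRange
  have hmemO : ∀ y, y ∈ O ↔ ∀ x, y ∈ Set.range (a x) := fun y => by
    rw [← SetLike.mem_coe, TopologicalSpace.Opens.coe_finset_inf]
    simp
  have hOaff : IsAffineOpen O := by
    refine Finset.inf_induction (isAffineOpen_top Y) (fun U hU V hV => hU.inf hV) ?_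
    exact fun x _ => isAffineOpen_opensRange (a x)
  suffices hUO : U = O by rw [hUO]; exact hOaff
  have hηO : η ∈ O := (hmemO η).mpr fun x => ⟨genericPoint (Z x), by
    show f (ι x (genericPoint (Z x))) = η
    rw [hgen, x.2]⟩
  ext y
  constructor
  · intro hy
    refine (hmemO y).mpr fun x => ?_
    haveI : IsFinite (f ∣_ U) := by
      obtain ⟨h1, h2⟩ := GrothLib.Weight.finite_over_max hfinf hw hpos d hmax
      exact h2
    have hcl' : IsClosed ((f ∣_ U) '' (Subtype.val ⁻¹' closure ({x.1} : Set X))) :=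
      (f ∣_ U).isClosedMap _ (isClosed_closure.preimage continuous_subtype_val)
    have hy' : (⟨y, hy⟩ : U) ∈ closure ({⟨η, hηU U hne⟩} : Set U) := by
      rw [closure_subtype, Set.image_singleton, (genericPoint_spec Y)]
      trivial
    obtain ⟨z, hz, hzy⟩ := hcl'.closure_subset_iff.mpr (Set.singleton_subset_iff.mpr
      ⟨⟨x.1, show f x.1 ∈ U by rw [x.2]; exact hηU U hne⟩, subset_closure rfl,
        Subtype.ext ((morphismRestrict_base_coe _ _ _).trans x.2)⟩) hy'
    obtain ⟨z', hz'⟩ : z.1 ∈ Set.range (ι x) := (hrange x).ge hz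
    refine ⟨z', ?_⟩
    show f (ι x z') = y
    rw [hz']
    exact (morphismRestrict_base_coe f U z).symm.trans (congrArg Subtype.val hzy)
  · intro hy
    let l : ∀ x, (O : Scheme.{u}) ⟶ Z x := fun x =>
      IsOpenImmersion.lift (a x) O.ι (by
        rw [Scheme.Opens.range_ι]
        exact fun z hz => (hmemO z).mp hz x)
    have hl : ∀ x, l x ≫ a x = O.ι := fun x => IsOpenImmersion.lift_fac _ _ _
    let s : ∀ x, (O : Scheme.{u}) ⟶ (f ⁻¹ᵁ O : X.Opens) := fun x =>
      IsOpenImmersion.lift (f ⁻¹ᵁ O).ι (l x ≫ ι x) (by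
        rw [Scheme.Opens.range_ι]
        rintro _ ⟨z, rfl⟩
        show (l x ≫ a x) z ∈ O
        rw [hl]
        exact z.2)
    have hs : ∀ x, s x ≫ (f ∣_ O) = 𝟙 _ := fun x => by
      rw [← cancel_mono O.ι, Category.assoc, morphismRestrict_ι, IsOpenImmersion.lift_fac_assoc, Category.assoc,
        Category.id_comp]
      exact hl x
    haveI : Surjective (Sigma.desc s) := ⟨fun z => by
      obtain ⟨x, hx⟩ := hcl z.1
      obtain ⟨z', hz'⟩ : z.1 ∈ Set.range (ι x) := (hrange x).ge hx
      refine ⟨Sigma.ι (fun _ : {x : X // f x = η} => (O : Scheme.{u})) x ((f ∣_ O) z), ?_⟩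
      rw [← Scheme.Hom.comp_apply, Sigma.ι_desc]
      apply (f ⁻¹ᵁ O).ι.isEmbedding.injective
      rw [← Scheme.Hom.comp_apply, IsOpenImmersion.lift_fac]
      show ι x (l x ((f ∣_ O) z)) = z.1
      rw [← hz']
      congr 1
      apply (a x).isOpenEmbedding.injective
      rw [← Scheme.Hom.comp_apply, hl]
      show ((f ∣_ O) z).1 = f (ι x z')
      rw [hz', morphismRestrict_base_coe]⟩
    haveI : IsFinite (Sigma.desc fun _ : {x : X // f x = η} => 𝟙 (O : Scheme.{u})) :=
      GrothLib.SGA1Quot21.isFinite_sigmaDesc _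
    haveI : UniversallyClosed (Sigma.desc s ≫ (f ∣_ O)) := by
      rw [show Sigma.desc s ≫ (f ∣_ O) = Sigma.desc fun _ : {x : X // f x = η} => 𝟙 (O : Scheme.{u}) from
        Sigma.hom_ext _ _ fun x => by rw [Sigma.ι_desc_assoc, Sigma.ι_desc, hs]]
      infer_instance
    haveI : UniversallyClosed (f ∣_ O) := UniversallyClosed.of_comp_surjective (Sigma.desc s) _
    haveI hfinO : IsFinite (f ∣_ O) := by
      haveI : IsAffineHom (f ∣_ O) := MorphismProperty.of_isPullback (P := @IsAffineHom)
        (isPullback_morphismRestrict _ _).flip inferInstance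
      haveI : LocallyOfFiniteType (f ∣_ O) := MorphismProperty.of_isPullback (P := @LocallyOfFiniteType)
        (isPullback_morphismRestrict _ _).flip inferInstance
      haveI : IsProper (f ∣_ O) := {}
      exact IsFinite.iff_isProper_and_isAffineHom.mpr ⟨inferInstance, inferInstance⟩
    have hc : IsPullback (f ⁻¹ᵁ O).ι (f ∣_ O) f O.ι := (isPullback_morphismRestrict f O).flip
    have hP : GrothLib.Weight.Piece f O.ι (f ∣_ O) (f ⁻¹ᵁ O).ι := by
      refine ⟨hfinO, hc.w, ?_⟩
      rw [show pullback.lift (f ⁻¹ᵁ O).ι (f ∣_ O) hc.w = hc.isoPullback.hom from by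
        apply pullback.hom_ext <;> simp]
      infer_instance
    have hF : ∀ z : O, MoreMor.fibreIntegral (f ∣_ O) (w ∘ ⇑(f ⁻¹ᵁ O).ι) z = MoreMor.fibreIntegral f w z.1 :=
      fun z => GrothLib.Weight.fibreIntegral_isPullback hc w z
    have hlc := (hP.isLocallyConstant' hw).isOpen_fiber (MoreMor.fibreIntegral f w y)
    obtain ⟨z, hz, hzη⟩ := hηU ⟨_, O.ι.isOpenEmbedding.isOpenMap _ hlc⟩ ⟨y, ⟨y, hy⟩, hF _, rfl⟩
    show MoreMor.fibreIntegral f w y = d
    rw [← hηd, ← (hF z).symm.trans hz, show z.1 = η from hzη]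

end GrothLib.MaxLocus6
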