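import Groth.Agent.Lib.MaxLocus6.Domains
import Groth.Agent.Lib.MaxLocus6.Normal
import Groth.Agent.Lib.Weight.IntegralConstructible
import Groth.Agent.Lib.Weight.FibreDegree

/-!
# The maximum locus of a fibre integral is affine
-/

set_option autoImplicit false
set_option backward.isDefEq.respectTransparency false
set_option linter.style.haveILetI false

universe u

open CategoryTheory CategoryTheory.Limits AlgebraicGeometry TopologicalSpace Topology

noncomputable section

namespace GrothLib.MaxLocus6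

variable {X Y : Scheme.{u}} (f : X ⟶ Y)

theorem isAffineOpen_preimage_domain [LocallyQuasiFinite f] [LocallyOfFiniteType f] [IsAffine X] [IsAffine Y]
    (w : X → ℤ) (hw : MoreMor.IsWeighting f w) (hpos : ∀ x, 0 < w x) (d : ℤ)
    (hmax : ∀ y, MoreMor.fibreIntegral f w y ≤ d)
    (U : Y.Opens) (hU : (U : Set Y) = {y : Y | MoreMor.fibreIntegral f w y = d})
    (R : CommRingCat.{u}) [IsDomain R] (g : Spec R ⟶ Y) : IsAffineOpen (g ⁻¹ᵁ U) := by
  let K := AlgebraicClosure (FractionRing R)
  haveI : FaithfulSMul R K := (faithfulSMul_iff_algebraMap_injective R K).2 (by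
    rw [IsScalarTower.algebraMap_eq R (FractionRing R) K]
    exact (RingHom.injective (algebraMap (FractionRing R) K)).comp (IsFractionRing.injective R (FractionRing R)))
  haveI : Algebra.IsAlgebraic R K :=
    (IsFractionRing.comap_isAlgebraic_iff (A := R) (K := FractionRing R) (C := K)).2 inferInstance
  let Rb := integralClosure R K
  let h : Spec (CommRingCat.of Rb) ⟶ Spec R := Spec.map (CommRingCat.ofHom (algebraMap R Rb))
  have hinj : Function.Injective (algebraMap R Rb) := fun a b e =>
    (FaithfulSMul.algebraMap_injective R K) (congrArg Subtype.val e)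
  haveI : IsIntegralHom h := IsIntegralHom.SpecMap_iff.2 (algebraMap_isIntegral_iff.2 inferInstance)
  haveI : FaithfulSMul R Rb := (faithfulSMul_iff_algebraMap_injective R Rb).2 hinj
  haveI : Surjective h := ⟨fun p => by
    obtain ⟨Q, hQ, hQp⟩ := Ideal.exists_ideal_over_prime_of_isIntegral p.asIdeal (⊥ : Ideal Rb)
      (by rw [show (⊥ : Ideal Rb).comap (algebraMap R Rb) = ⊥ from (RingHom.injective_iff_ker_eq_bot _).1 hinj]; exact bot_le)
    exact ⟨⟨Q, hQp.1⟩, PrimeSpectrum.ext hQp.2⟩⟩
  haveI hfr : IsFractionRing Rb K :=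
    integralClosure.isFractionRing_of_algebraic (A := R) (L := K) (fun x hx => FaithfulSMul.algebraMap_injective R K (by simpa using hx))
  have hic : IsIntegrallyClosed Rb := by
    refine (isIntegrallyClosed_iff K).2 fun {x} hx => ?_
    exact ⟨⟨x, isIntegral_trans (R := R) x hx⟩, rfl⟩
  let Ys := Spec (CommRingCat.of Rb)
  let k : Ys ⟶ Y := h ≫ g
  haveI : IsIntegral Ys := inferInstanceAs (IsIntegral (Spec (CommRingCat.of Rb)))
  have hN : ∀ y, IsIntegrallyClosed (Ys.presheaf.stalk y) := fun y => by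
    haveI := hic
    let p : PrimeSpectrum Rb := y
    haveI : IsIntegrallyClosed (Localization.AtPrime p.asIdeal) :=
      isIntegrallyClosed_of_isLocalization _ p.asIdeal.primeCompl p.asIdeal.primeCompl_le_nonZeroDivisors
    exact IsIntegrallyClosed.of_equiv (Spec.stalkIso (CommRingCat.of Rb) p).commRingCatIsoToRingEquiv.symm
  have hK : IsAlgClosed Ys.functionField := by
    letI : Algebra Rb Ys.functionField := AlgebraicGeometry.instAlgebraCarrierFunctionFieldSpec (CommRingCat.of Rb)
    haveI : IsFractionRing Rb Ys.functionField := functionField_isFractionRing_of_affine (CommRingCat.of Rb)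
    exact IsAlgClosed.of_ringEquiv K _ (IsLocalization.algEquiv (nonZeroDivisors Rb) K Ys.functionField).toRingEquiv
  let f' := pullback.snd f k
  have hc : IsPullback (pullback.fst f k) f' f k := IsPullback.of_hasPullback f k
  haveI : LocallyQuasiFinite f' := MorphismProperty.pullback_snd _ _ ‹_›
  haveI : LocallyOfFiniteType f' := MorphismProperty.pullback_snd _ _ ‹_›
  have hw' : MoreMor.IsWeighting f' (w ∘ ⇑(pullback.fst f k)) := by
    intro V e _ O hO
    exact ((GrothLib.Weight.Piece.ofOpens e O hO).of_isPullback hc).isLocallyConstant' hw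
  have hset : {y : Ys | MoreMor.fibreIntegral f' (w ∘ ⇑(pullback.fst f k)) y = d} = ↑(k ⁻¹ᵁ U) := by
    ext y
    show _ = d ↔ k y ∈ (U : Set Y)
    rw [hU, GrothLib.Weight.fibreIntegral_isPullback hc]
    rfl
  have hopen : IsOpen {y : Ys | MoreMor.fibreIntegral f' (w ∘ ⇑(pullback.fst f k)) y = d} := hset ▸ (k ⁻¹ᵁ U).2
  have haff := isAffineOpen_max_of_algClosed f' hN hK (w ∘ ⇑(pullback.fst f k)) hw' (fun _ => hpos _) d
    (fun y => (GrothLib.Weight.fibreIntegral_isPullback hc w y).le.trans (hmax _)) hopen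
  rw [show (⟨_, hopen⟩ : Ys.Opens) = k ⁻¹ᵁ U from TopologicalSpace.Opens.ext hset] at haff
  haveI : IsAffine ((h ⁻¹ᵁ (g ⁻¹ᵁ U) : Ys.Opens) : Scheme.{u}) := by
    rw [← Scheme.Hom.comp_preimage]
    exact haff
  haveI : IsIntegralHom (h ∣_ (g ⁻¹ᵁ U)) :=
    MorphismProperty.of_isPullback (P := @IsIntegralHom) (isPullback_morphismRestrict _ _).flip inferInstance
  haveI : Surjective (h ∣_ (g ⁻¹ᵁ U)) :=
    MorphismProperty.of_isPullback (P := @Surjective) (isPullback_morphismRestrict _ _).flip inferInstance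
  haveI : CompactSpace ((g ⁻¹ᵁ U : (Spec R).Opens) : Scheme.{u}) :=
    (h ∣_ (g ⁻¹ᵁ U)).surjective.compactSpace (h ∣_ (g ⁻¹ᵁ U)).continuous
  haveI : QuasiSeparatedSpace ((g ⁻¹ᵁ U : (Spec R).Opens) : Scheme.{u}) :=
    (isQuasiSeparated_iff_quasiSeparatedSpace _ (g ⁻¹ᵁ U).2).mp (.of_quasiSeparatedSpace _)
  exact GrothLib.Affine25.isAffine_of_integral_surjective (h ∣_ (g ⁻¹ᵁ U))

theorem isAffineOpen_max [LocallyQuasiFinite f] [QuasiCompact f] [LocallyOfFiniteType f] [IsAffine X] [IsAffine Y]
    (w : X → ℤ) (hw : MoreMor.IsWeighting f w) (hpos : ∀ x, 0 < w x) (d : ℤ)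
    (hmax : ∀ y, MoreMor.fibreIntegral f w y ≤ d) :
    ∃ hYd : IsOpen {y : Y | MoreMor.fibreIntegral f w y = d},
      IsAffineOpen (⟨{y : Y | MoreMor.fibreIntegral f w y = d}, hYd⟩ : Y.Opens) := by
  obtain ⟨hopen, -⟩ := GrothLib.Weight.finite_over_max (f := f) (fun y => f.finite_preimage_singleton y) hw hpos d hmax
  refine ⟨hopen, isAffineOpen_of_domains _ ?_ fun R _ g => isAffineOpen_preimage_domain f w hw hpos d hmax _ rfl R g⟩
  exact IsRetrocompact.isCompact (GrothLib.Weight.isRetrocompact_of_isLocallyConstructible (GrothLib.Weight.isLocallyConstructible_fibreIntegral hw d))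

end GrothLib.MaxLocus6
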