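import Groth.Agent.Lib.MaxLocus6.Main
import Groth.Agent.Lib.RedSub.Basic

/-!
# The affine stratification by the values of a positive fibre integral
-/

set_option autoImplicit false
set_option backward.isDefEq.respectTransparency false
set_option linter.style.haveILetI false

universe u

open CategoryTheory CategoryTheory.Limits AlgebraicGeometry TopologicalSpace Topology

noncomputable section

namespace GrothLib.MaxLocus6

variable {X Y : Scheme.{u}} (f : X ⟶ Y)

/-- Each level set is the image of an affine immersion. -/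
theorem exists_affine_stratum [Surjective f] [LocallyQuasiFinite f] [LocallyOfFiniteType f] [QuasiCompact f]
    [IsAffine X] [Y.IsSeparated] (w : X → ℤ) (hw : MoreMor.IsWeighting f w) (hpos : ∀ x, 0 < w x) (v : ℤ)
    (hclosed : IsClosed {y : Y | MoreMor.fibreIntegral f w y ≤ v}) :
    ∃ (Z : Scheme.{u}) (ι : Z ⟶ Y), IsImmersion ι ∧ IsAffine Z ∧ IsAffineHom ι ∧
      Set.range ι = {y : Y | MoreMor.fibreIntegral f w y = v} := by
  let C : Closeds Y := ⟨_, hclosed⟩
  let Z := (Scheme.IdealSheafData.vanishingIdeal C).subscheme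
  let ι : Z ⟶ Y := (Scheme.IdealSheafData.vanishingIdeal C).subschemeι
  have hι : Set.range ι = {y : Y | MoreMor.fibreIntegral f w y ≤ v} := GrothLib.RedSub.range_subschemeι_vanishingIdeal C
  haveI : IsClosedImmersion ι := inferInstanceAs (IsClosedImmersion (Scheme.IdealSheafData.subschemeι _))
  haveI : Z.IsSeparated := ⟨by
    rw [show terminal.from Z = ι ≫ terminal.from Y from terminalIsTerminal.hom_ext _ _]; infer_instance⟩
  let g := pullback.snd f ι
  have hc : IsPullback (pullback.fst f ι) g f ι := IsPullback.of_hasPullback f ι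
  haveI : IsAffine (pullback f ι) := isAffine_of_isAffineHom (pullback.fst f ι)
  haveI : LocallyQuasiFinite g := MorphismProperty.pullback_snd _ _ ‹_›
  haveI : LocallyOfFiniteType g := MorphismProperty.pullback_snd _ _ ‹_›
  haveI : Surjective g := MorphismProperty.pullback_snd _ _ ‹_›
  haveI : IsAffineHom g := by
    haveI : IsAffineHom (g ≫ terminal.from Z) := by
      rw [show g ≫ terminal.from Z = terminal.from (pullback f ι) from terminalIsTerminal.hom_ext _ _]; infer_instance
    exact MorphismProperty.of_postcomp (W := @IsAffineHom) (W' := @IsSeparated) g (terminal.from Z) inferInstance ‹_›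
  let wZ := w ∘ ⇑(pullback.fst f ι)
  have hwZ : MoreMor.IsWeighting g wZ := by
    intro V e _ O hO
    exact ((GrothLib.Weight.Piece.ofOpens e O hO).of_isPullback hc).isLocallyConstant' hw
  have hZv : ∀ z : Z, MoreMor.fibreIntegral g wZ z ≤ v := fun z =>
    (GrothLib.Weight.fibreIntegral_isPullback hc w z).le.trans (hι.le ⟨z, rfl⟩)
  have hfin : ∀ z : Z, (g ⁻¹' {z}).Finite := fun z => g.finite_preimage_singleton z
  obtain ⟨hopen, hfinite⟩ := GrothLib.Weight.finite_over_max (f := g) hfin hwZ (fun _ => hpos _) v hZv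
  let U : Z.Opens := ⟨_, hopen⟩
  have hUaff : IsAffineOpen U := by
    let p := pullback.fst g g
    have hc' : IsPullback (pullback.snd g g) p g g := (IsPullback.of_hasPullback g g).flip
    haveI : IsAffine (pullback g g) := isAffine_of_isAffineHom p
    haveI : LocallyQuasiFinite p := MorphismProperty.pullback_fst _ _ ‹LocallyQuasiFinite g›
    haveI : LocallyOfFiniteType p := MorphismProperty.pullback_fst _ _ ‹LocallyOfFiniteType g›
    obtain ⟨hop, haff⟩ := isAffineOpen_max p (wZ ∘ ⇑(pullback.snd g g)) (by
        intro V e _ O hO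
        exact ((GrothLib.Weight.Piece.ofOpens e O hO).of_isPullback hc').isLocallyConstant' hwZ)
      (fun _ => hpos _) v (fun x => (GrothLib.Weight.fibreIntegral_isPullback hc' wZ x).le.trans (hZv _))
    rw [show (⟨_, hop⟩ : (pullback f ι).Opens) = g ⁻¹ᵁ U from TopologicalSpace.Opens.ext (Set.ext fun x => by
      show _ = v ↔ MoreMor.fibreIntegral g wZ (g x) = v
      rw [GrothLib.Weight.fibreIntegral_isPullback hc'])] at haff
    haveI : IsAffine ((g ⁻¹ᵁ U : (pullback f ι).Opens) : Scheme.{u}) := haff
    haveI : IsFinite (g ∣_ U) := hfinite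
    haveI : Surjective (g ∣_ U) :=
      MorphismProperty.of_isPullback (P := @Surjective) (isPullback_morphismRestrict _ _).flip inferInstance
    exact GrothLib.Affine25.isAffine_of_surjective_universallyClosed (g ∣_ U)
  refine ⟨(U : Scheme.{u}), U.ι ≫ ι, inferInstance, hUaff, ?_, ?_⟩
  · haveI : IsAffine (U : Scheme.{u}) := hUaff
    haveI : IsAffineHom ((U.ι ≫ ι) ≫ terminal.from Y) := by
      rw [show (U.ι ≫ ι) ≫ terminal.from Y = terminal.from (U : Scheme.{u}) from terminalIsTerminal.hom_ext _ _]
      infer_instance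
    exact MorphismProperty.of_postcomp (W := @IsAffineHom) (W' := @IsSeparated) _ (terminal.from Y) inferInstance ‹_›
  · ext y
    constructor
    · rintro ⟨z, rfl⟩
      show MoreMor.fibreIntegral f w (ι z.1) = v
      rw [← GrothLib.Weight.fibreIntegral_isPullback hc w z.1]
      exact z.2
    · intro hy
      obtain ⟨z, rfl⟩ := hι.ge (show MoreMor.fibreIntegral f w y ≤ v from hy.le)
      exact ⟨⟨z, show MoreMor.fibreIntegral g wZ z = v from (GrothLib.Weight.fibreIntegral_isPullback hc w z).trans hy⟩, rfl⟩

theorem hasAffineStratification_card [Surjective f] [LocallyQuasiFinite f] [LocallyOfFiniteType f] [QuasiCompact f]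
    [IsAffine X] [Y.IsSeparated] [Nonempty Y] (w : X → ℤ) (hw : MoreMor.IsWeighting f w) (hpos : ∀ x, 0 < w x)
    (k : ℕ) (hk : (Set.range (MoreMor.fibreIntegral f w)).ncard = k) (hkfin : (Set.range (MoreMor.fibreIntegral f w)).Finite) :
    MoreMor.HasAffineStratification Y (k - 1) := by
  classical
  haveI : IsAffineHom f := by
    haveI : IsAffineHom (f ≫ terminal.from Y) := by
      rw [show f ≫ terminal.from Y = terminal.from X from terminalIsTerminal.hom_ext _ _]; infer_instance
    exact MorphismProperty.of_postcomp (W := @IsAffineHom) (W' := @IsSeparated) f (terminal.from Y) inferInstance ‹_›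
  let F := hkfin.toFinset
  have hk0 : 0 < k := hk ▸ (Set.ncard_pos hkfin).mpr (Set.range_nonempty _)
  have hcard : F.card = k - 1 + 1 := by
    rw [Nat.sub_add_cancel hk0, ← hk, Set.ncard_eq_toFinset_card _ hkfin]
  let e : Fin (k - 1 + 1) ≃o F := F.orderIsoOfFin hcard
  let s : Y → Fin (k - 1 + 1) := fun y => e.symm ⟨_, hkfin.mem_toFinset.mpr ⟨y, rfl⟩⟩
  have hlsc := GrothLib.Weight.lowerSemicontinuous_fibreIntegral (f := f) (fun y => f.finite_preimage_singleton y) hw hpos
  refine ⟨s, fun i => ?_, fun i => ?_⟩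
  · rw [show {y : Y | s y ≤ i} = MoreMor.fibreIntegral f w ⁻¹' Set.Iic (e i).1 from Set.ext fun y => e.symm_apply_le]
    exact hlsc.isClosed_preimage _
  · obtain ⟨Z, ι, h1, h2, h3, h4⟩ := exists_affine_stratum f w hw hpos (e i).1 (hlsc.isClosed_preimage _)
    refine ⟨Z, ι, h1, h2, h3, h4.trans (Set.ext fun y => ?_)⟩
    show MoreMor.fibreIntegral f w y = (e i).1 ↔ e.symm _ = i
    rw [OrderIso.symm_apply_eq, Subtype.ext_iff]

end GrothLib.MaxLocus6
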